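import Mathlib

/-!
# S4766 B4: numerical lemmas (helper107)
-/

set_option autoImplicit false

namespace Cfsg.Agent.H107.AN

/-- if `s ^ c > 2` divides `2 o` then `s` divides `o` -/
theorem dvd_of_pow_dvd {s c o : ℕ} (hs : s.Prime) (hx : 2 < s ^ c) (h : s ^ c ∣ 2 * o) : s ∣ o := by
  have hc0 : c ≠ 0 := by
    rintro rfl
    simp at hx
  have h1 : s ∣ 2 * o := (dvd_pow_self s hc0).trans h
  by_cases h2 : s = 2
  · subst h2
    have hc : 2 ≤ c := by
      by_contra hc
      have : c = 1 := by omega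
      subst this
      simp at hx
    have h3 : 2 ^ 2 ∣ 2 * o := (pow_dvd_pow 2 hc).trans h
    omega
  · rcases (Nat.Prime.dvd_mul hs).1 h1 with h3 | h3
    · exact absurd ((Nat.prime_dvd_prime_iff_eq hs Nat.prime_two).1 h3) h2
    · exact h3

/-- the numerical analysis of an orbit whose size is prime to `s` -/
theorem special {m i b b' s c o t : ℕ} (hm : 19 ≤ m) (hs : s.Prime) (hc : 1 ≤ c) (hmi : m = i * b)
    (hb : b = s ^ c * b') (hti : t ∣ i) (hso : ¬ s ∣ o) (ho : o + 1 ≤ (s ^ c) ^ 2)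
    (hd : o * t = m ∨ 2 * (o * t) = (m + 1) * (m - 2) ∨ 2 * (o * t) = m * (m - 1)) :
    (i = 1 ∧ m = s ^ c ∧ 2 * o = (m + 1) * (m - 2)) ∨
      (i = 2 ∧ m = 2 * s ^ c ∧ 2 * o = (m + 1) * (s ^ c - 1)) := by
  have hsx : s ∣ s ^ c := dvd_pow_self s (by omega)
  have hx2 : 2 ≤ s ^ c := hs.two_le.trans (Nat.le_of_dvd (pow_pos hs.pos c) hsx)
  have hgt := fun h : 2 < s ^ c => dvd_of_pow_dvd (o := o) hs h
  generalize s ^ c = x at *
  obtain ⟨t', rfl⟩ := hti
  have hmk : m = (t * t' * b') * x := by rw [hmi, hb]; ring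
  have hpos : 0 < t * t' * b' := by
    rcases Nat.eq_zero_or_pos (t * t' * b') with h0 | h0
    · rw [h0] at hmk; omega
    · exact h0
  have ht0 : 0 < t := Nat.pos_of_ne_zero (by rintro rfl; simp at hpos)
  have ht'0 : 0 < t' := Nat.pos_of_ne_zero (by rintro rfl; simp at hpos)
  have hb'0 : 0 < b' := Nat.pos_of_ne_zero (by rintro rfl; simp at hpos)
  rcases hd with hd | hd | hd
  · -- size `m / t`
    exfalso
    apply hso
    have h1 : o * t = (x * b' * t') * t := by rw [hd, hmk]; ring
    have h2 : o = x * b' * t' := Nat.eq_of_mul_eq_mul_right ht0 h1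
    rw [h2]
    exact dvd_mul_of_dvd_left (dvd_mul_of_dvd_left hsx _) _
  · obtain ⟨k, hk⟩ : ∃ k, k = t * t' * b' := ⟨_, rfl⟩
    have htk : t ∣ k := by rw [hk, mul_assoc]; exact dvd_mul_right _ _
    rw [← hk] at hmk
    have htm : t ∣ m := htk.trans (by rw [hmk]; exact dvd_mul_right _ _)
    have h3 : (m + 1) * (m - 2) + 2 = m * (m - 1) := by
      obtain ⟨y, rfl⟩ := Nat.exists_eq_add_of_le hm
      rw [show 19 + y - 2 = 17 + y by omega, show 19 + y - 1 = 18 + y by omega]
      ring
    have ht2 : t ∣ 2 := by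
      have h4 : t ∣ (m + 1) * (m - 2) := by rw [← hd]; exact dvd_mul_of_dvd_right (dvd_mul_left _ _) _
      exact (Nat.dvd_add_right h4).1 (h3 ▸ dvd_mul_of_dvd_left htm _)
    have h5 : 2 * (o * t) + 2 + m = m * m := by
      rw [hd, h3]
      obtain ⟨y, rfl⟩ := Nat.exists_eq_add_of_le hm
      rw [show 19 + y - 1 = 18 + y by omega]
      ring
    have hk0 : 0 < k := by rw [hk]; exact hpos
    rcases (Nat.dvd_prime Nat.prime_two).1 ht2 with rfl | rfl
    · -- `t = 1`
      have hk1 : k = 1 := by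
        by_contra hk1
        have hk2 : 2 ≤ k := by omega
        rw [hmk] at h5
        have h6 : 2 * x ^ 2 + k * x ≥ k * x * (k * x) := by nlinarith
        nlinarith [mul_le_mul hk2 hx2 (by norm_num) (by omega), Nat.mul_le_mul hk2 hk2]
      left
      subst hk1
      have h7 : t' = 1 ∧ b' = 1 := by
        have h8 : t' * b' = 1 := by rw [hk]; ring
        exact ⟨Nat.eq_one_of_mul_eq_one_right h8, Nat.eq_one_of_mul_eq_one_left h8⟩
      refine ⟨by rw [h7.1], by rw [hmk, one_mul], by rw [← hd, mul_one]⟩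
    · have hk2 : k = 2 := by
        have hkle : k < 3 := by
          by_contra hk3
          push Not at hk3
          rw [hmk] at h5
          have h6 : 4 * x ^ 2 + k * x ≥ k * x * (k * x) + 2 := by nlinarith
          nlinarith [Nat.mul_le_mul hk3 hk3, Nat.mul_le_mul hk3 hx2]
        have := Nat.le_of_dvd hk0 htk
        omega
      right
      subst hk2
      have h7 : t' = 1 ∧ b' = 1 := by
        have h8 : t' * b' = 1 := by
          rw [mul_assoc] at hk
          omega
        exact ⟨Nat.eq_one_of_mul_eq_one_right h8, Nat.eq_one_of_mul_eq_one_left h8⟩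
      refine ⟨by rw [h7.1], hmk, ?_⟩
      have h9 : (m + 1) * (m - 2) = 2 * ((m + 1) * (x - 1)) := by
        rw [hmk, show 2 * x - 2 = 2 * (x - 1) by omega]
        ring
      rw [h9] at hd
      have h10 : o * 2 = (m + 1) * (x - 1) := Nat.eq_of_mul_eq_mul_left (by norm_num) hd
      rw [← h10]; ring
  · exfalso
    obtain ⟨k, hk⟩ : ∃ k, k = t * t' * b' := ⟨_, rfl⟩
    have htk : t ∣ k := by rw [hk, mul_assoc]; exact dvd_mul_right _ _
    rw [← hk] at hmk
    have hk0 : 0 < k := by rw [hk]; exact hpos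
    have htle : t ≤ k := Nat.le_of_dvd hk0 htk
    have h5 : 2 * (o * t) + m = m * m := by
      rw [hd]
      obtain ⟨y, rfl⟩ := Nat.exists_eq_add_of_le hm
      rw [show 19 + y - 1 = 18 + y by omega]
      ring
    have hkle : k < 3 := by
      by_contra hk3
      push Not at hk3
      rw [hmk] at h5
      have h6 : o * t ≤ o * k := Nat.mul_le_mul_left _ htle
      have h7 : k * (k * x * x) ≤ k * (2 * o + x) := by nlinarith
      have h8 : k * x * x ≤ 2 * o + x := Nat.le_of_mul_le_mul_left h7 hk0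
      have h9 : 3 * (x * x) ≤ k * x * x := by nlinarith [Nat.mul_le_mul_right (x * x) hk3]
      nlinarith
    have hxgt : 2 < x := by
      by_contra hx
      have : x = 2 := by omega
      subst this
      omega
    -- `x ∣ 2 o`
    have h11 : x ∣ 2 * o := by
      have hk12 : k = 1 ∨ k = 2 := by omega
      rcases hk12 with rfl | rfl
      · have ht1 : t = 1 := by omega
        subst ht1
        rw [mul_one] at hd
        rw [hd, hmk, one_mul]
        exact dvd_mul_right _ _
      · have ht12 : t = 1 ∨ t = 2 := by omega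
        rcases ht12 with rfl | rfl
        · rw [mul_one] at hd
          rw [hd, hmk, mul_comm 2 x, mul_assoc]
          exact dvd_mul_right _ _
        · have h12 : 2 * (o * 2) = 2 * (x * (m - 1)) := by
            rw [hd]
            nth_rewrite 1 [hmk]
            ring
          have h13 : o * 2 = x * (m - 1) := Nat.eq_of_mul_eq_mul_left (by norm_num) h12
          rw [mul_comm 2 o, h13]
          exact dvd_mul_right _ _
    exact hso (hgt hxgt h11)

/-- a degree `< m ^ 2` -/
theorem low_cases {n d : ℕ} (hn : 20 ≤ n) (h1 : d ≠ 1) (hlt : d < (n - 1) ^ 2)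
    (h : d = 1 ∨ d = n - 1 ∨ 2 * d = n * (n - 3) ∨ 2 * d = (n - 1) * (n - 2) ∨ 6 * d = n * (n - 1) * (n - 5) ∨
      3 * d = n * (n - 2) * (n - 4) ∨ 6 * d = (n - 1) * (n - 2) * (n - 3) ∨ (n - 1) ^ 3 < 2 * d) :
    d = n - 1 ∨ 2 * d = (n - 1 + 1) * (n - 1 - 2) ∨ 2 * d = (n - 1) * (n - 1 - 1) := by
  obtain ⟨y, rfl⟩ := Nat.exists_eq_add_of_le hn
  rw [show 20 + y - 1 = 19 + y by omega] at *
  rw [show 20 + y - 3 = 17 + y by omega, show 20 + y - 2 = 18 + y by omega, show 20 + y - 5 = 15 + y by omega,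
    show 20 + y - 4 = 16 + y by omega] at h
  rw [show 19 + y + 1 = 20 + y by omega, show 19 + y - 2 = 17 + y by omega, show 19 + y - 1 = 18 + y by omega]
  rcases h with h | h | h | h | h | h | h | h
  · exact absurd h h1
  · exact Or.inl h
  · exact Or.inr (Or.inl h)
  · exact Or.inr (Or.inr h)
  · exfalso; nlinarith
  · exfalso; nlinarith
  · exfalso; nlinarith
  · exfalso
    have : (19 + y) ^ 3 = (19 + y) * (19 + y) ^ 2 := by ring
    nlinarith

end Cfsg.Agent.H107.AN
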