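import Cfsg.Agent.H691.AN.Defs
import Cfsg.Agent.H424.DegTools
import Cfsg.Agent.Characters.Linear
import Cfsg.Agent.OddOrderCharacters.IndRes
import Cfsg.Agent.H107.AN.BFourNum

/-!
# S4766 B4: a character of degree `n - 1` of a solvable group with the degrees of `A_n` (helper107)

`b4_of` : the statement B4 from A3, A4, A6, B1, B2, B3 (as hypotheses).
-/

set_option autoImplicit false

namespace Cfsg.Agent.H107.AN

open Cfsg Cfsg.Agent.Characters.Core Cfsg.Agent.H691.AN Cfsg.Agent.H424.DegTools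

universe u v

/-- the statement of A3 -/
def A3 : Prop := ∀ {n : ℕ}, 20 ≤ n → ∀ {d : ℕ}, d ∈ D n →
    d = 1 ∨ d = n - 1 ∨ 2 * d = n * (n - 3) ∨ 2 * d = (n - 1) * (n - 2) ∨ 6 * d = n * (n - 1) * (n - 5) ∨
      3 * d = n * (n - 2) * (n - 4) ∨ 6 * d = (n - 1) * (n - 2) * (n - 3) ∨ (n - 1) ^ 3 < 2 * d

/-- the statement of A4 -/
def A4 : Prop := ∀ {n : ℕ}, 7 ≤ n → n - 1 ∈ D n ∧ n * (n - 3) / 2 ∈ D n ∧ (n - 1) * (n - 2) / 2 ∈ D n

/-- the statement of A6 -/
def A6 : Prop := ∀ {n : ℕ}, 7 ≤ n → ∀ {d : ℕ}, d ∈ D n → d = 1 ∨ n - 1 ≤ d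

/-- the statement of B1 -/
def B1 : Prop := ∀ {G : Type u} [Group G] [Finite G] {m : ℕ}, (∀ d ∈ charDegrees G, d = 1 ∨ m ≤ d) →
  ∀ (H : Subgroup G), H.index ≤ m → commutator G ≤ H

/-- the statement of B2 -/
def B2 : Prop := ∀ {G : Type u} [Group G] [Fintype G] {χ : G → ℂ}, IsIrrCharacter G χ →
    ∃ (H : Subgroup G) (lam : H → ℂ), IsIrrCharacter H lam ∧ QP lam ∧ indFun H lam = χ

/-- the statement of B3 -/
def B3 : Prop := ∀ {H : Type u} [Group H] [Finite H] [Group.IsSolvable H] {lam : H → ℂ}, IsIrrCharacter H lam →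
    QP lam → ∀ {b : ℕ}, lam 1 = b → b ≠ 1 →
    ∃ (s c : ℕ) (V : Type u) (_ : CommGroup V) (_ : Finite V) (_ : MulDistribMulAction H V), s.Prime ∧ 1 ≤ c ∧
      Nat.card V = s ^ (2 * c) ∧ s ^ c ∣ b ∧
      (∀ W : Subgroup V, (∀ h : H, ∀ w ∈ W, h • w ∈ W) → W = ⊥ ∨ W = ⊤) ∧
      ∀ v : V, v ≠ 1 → (MulAction.stabilizer H v).index ≠ 1 ∧ (MulAction.stabilizer H v).index ∈ charDegrees H

section Orb

variable {H : Type u} [Group H] {V : Type v} [CommGroup V] [Finite V] [MulDistribMulAction H V]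

/-- an invariant subset can be enlarged by an orbit -/
theorem add_orbit {A : Set V} (hinv : ∀ (h : H), ∀ a ∈ A, h • a ∈ A) {v : V} (hv : v ∉ A) :
    (∀ (h : H), ∀ a ∈ A ∪ MulAction.orbit H v, h • a ∈ A ∪ MulAction.orbit H v) ∧
      (A ∪ MulAction.orbit H v).ncard = A.ncard + (MulAction.stabilizer H v).index := by
  constructor
  · rintro h a (ha | ha)
    · exact Or.inl (hinv h a ha)
    · right
      obtain ⟨g, rfl⟩ := ha
      exact ⟨h * g, mul_smul h g v⟩
  · rw [Set.ncard_union_eq _ (Set.toFinite _) (Set.toFinite _), MulAction.index_stabilizer]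
    rw [Set.disjoint_left]
    rintro a ha ⟨g, hg⟩
    have h1 := hinv g⁻¹ a ha
    rw [← hg] at h1
    simp only [inv_smul_smul] at h1
    exact hv h1

omit [Finite V] in
theorem inv_one (h : H) : ∀ a ∈ ({1} : Set V), h • a ∈ ({1} : Set V) := by
  intro a ha
  rw [Set.mem_singleton_iff] at ha ⊢
  rw [ha, smul_one]

omit [CommGroup V] [Finite V] in
theorem exists_not_mem {A : Set V} (hlt : A.ncard < Nat.card V) : ∃ v, v ∉ A := by
  by_contra hcon
  push Not at hcon
  have : A = Set.univ := Set.eq_univ_of_forall hcon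
  rw [this, Set.ncard_univ] at hlt
  exact lt_irrefl _ hlt

omit [CommGroup V] in
theorem ncard_le (A : Set V) : A.ncard ≤ Nat.card V := by
  rw [← Set.ncard_univ]
  exact Set.ncard_le_ncard (Set.subset_univ A) (Set.toFinite _)

theorem dvd_aux {s : ℕ} (hs : ∀ v : V, v ≠ 1 → s ∣ (MulAction.stabilizer H v).index) :
    ∀ (k : ℕ) (A : Set V), (∀ (h : H), ∀ a ∈ A, h • a ∈ A) → (1 : V) ∈ A → Nat.card V ≤ A.ncard + k →
      s ∣ A.ncard - 1 → s ∣ Nat.card V - 1 := by
  intro k
  induction k with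
  | zero =>
    intro A _ _ hle hd
    rw [le_antisymm (by simpa using hle) (ncard_le A)]
    exact hd
  | succ k ih =>
    intro A hA h1 hle hd
    by_cases hlt : A.ncard < Nat.card V
    · obtain ⟨v, hv⟩ := exists_not_mem hlt
      obtain ⟨h2, h3⟩ := add_orbit (H := H) hA hv
      have hpos : 0 < (MulAction.stabilizer H v).index := by
        rw [MulAction.index_stabilizer, Set.ncard_pos (Set.toFinite _)]
        exact MulAction.nonempty_orbit v
      have hA1 : 0 < A.ncard := (Set.ncard_pos (Set.toFinite _)).2 ⟨1, h1⟩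
      refine ih _ h2 (Or.inl h1) (by omega) ?_
      rw [h3, show A.ncard + (MulAction.stabilizer H v).index - 1 =
        (A.ncard - 1) + (MulAction.stabilizer H v).index by omega]
      refine dvd_add hd (hs v ?_)
      rintro rfl
      exact hv h1
    · rw [show Nat.card V = A.ncard by exact le_antisymm (not_lt.1 hlt) (ncard_le A)]
      exact hd

/-- an orbit of size prime to `s` -/
theorem exists_not_dvd {s : ℕ} (hs : s.Prime) (hV : s ∣ Nat.card V) :
    ∃ v : V, v ≠ 1 ∧ ¬ s ∣ (MulAction.stabilizer H v).index := by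
  by_contra hcon
  push Not at hcon
  have h1 := dvd_aux (H := H) hcon (Nat.card V) {1} inv_one rfl (by omega) (by simp)
  have hpos : 0 < Nat.card V := Nat.card_pos
  have h2 : s ∣ 1 := by
    have h3 : Nat.card V = (Nat.card V - 1) + 1 := by omega
    rw [h3] at hV
    exact (Nat.dvd_add_right h1).1 hV
  exact hs.one_lt.ne' (Nat.dvd_one.1 h2)

end Orb

section Main

variable {G : Type u} [Group G] [Finite G]

/-- the contradiction for a character which is not induced from a linear character -/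
theorem no_section (a3 : A3) (a6 : A6) (b1 : B1.{u}) {n : ℕ} (hn : 20 ≤ n) (h : charDegrees G = D n)
    (H : Subgroup G) [H.Normal] {b : ℕ} (hmi : n - 1 = H.index * b) {s c : ℕ} {V : Type u} [CommGroup V] [Finite V]
    [MulDistribMulAction H V] (hs : s.Prime) (hc : 1 ≤ c) (hV : Nat.card V = s ^ (2 * c)) (hb : s ^ c ∣ b)
    (hirr : ∀ W : Subgroup V, (∀ h : H, ∀ w ∈ W, h • w ∈ W) → W = ⊥ ∨ W = ⊤)
    (horb : ∀ v : V, v ≠ 1 → (MulAction.stabilizer H v).index ≠ 1 ∧
      (MulAction.stabilizer H v).index ∈ charDegrees H) : False := by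
  obtain ⟨m, hm⟩ : ∃ m, m = n - 1 := ⟨_, rfl⟩
  have hm19 : 19 ≤ m := by omega
  have hVx : Nat.card V = (s ^ c) ^ 2 := by rw [hV, ← pow_mul, mul_comm]
  have hxm : s ^ c * H.index ≤ m := by
    rw [hm, hmi, mul_comm]
    refine Nat.mul_le_mul_left _ (Nat.le_of_dvd ?_ hb)
    rcases Nat.eq_zero_or_pos b with h0 | h0
    · rw [h0] at hmi; omega
    · exact h0
  have hi0 : 0 < H.index := by
    rcases Nat.eq_zero_or_pos H.index with h0 | h0
    · rw [h0] at hmi; omega
    · exact h0
  -- the sizes of the orbits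
  have hle : ∀ v : V, v ≠ 1 → (MulAction.stabilizer H v).index + 1 ≤ (s ^ c) ^ 2 := by
    intro v hv
    have h1 := (add_orbit (H := H) (A := {1}) inv_one (v := v) (by simpa using hv)).2
    have h2 := ncard_le ({1} ∪ MulAction.orbit H v)
    rw [h1, Set.ncard_singleton, hVx] at h2
    omega
  have hcase : ∀ v : V, v ≠ 1 → ∃ t, t ∣ H.index ∧ ((MulAction.stabilizer H v).index * t = m ∨
      2 * ((MulAction.stabilizer H v).index * t) = (m + 1) * (m - 2) ∨
      2 * ((MulAction.stabilizer H v).index * t) = m * (m - 1)) := by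
    intro v hv
    obtain ⟨ho1, ho⟩ := horb v hv
    have hopos := pos_of_mem ho
    obtain ⟨d, hd, hod, hdi⟩ := clifford_up H ho
    rw [h] at hd
    obtain ⟨t, rfl⟩ := hod
    rw [Nat.mul_div_cancel_left _ hopos] at hdi
    refine ⟨t, hdi, ?_⟩
    have ht : t ≤ H.index := Nat.le_of_dvd hi0 hdi
    have ht0 : t ≠ 0 := by
      rintro rfl
      rw [zero_dvd_iff] at hdi
      omega
    rw [hm]
    refine low_cases hn ?_ ?_ (a3 hn hd)
    · intro h1
      exact ho1 (Nat.eq_one_of_mul_eq_one_right h1)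
    · rw [← hm]
      have h1 := hle v hv
      have hi1 : s ^ c ≤ m := (Nat.le_mul_of_pos_right _ hi0).trans hxm
      calc (MulAction.stabilizer H v).index * t < (s ^ c) ^ 2 * t :=
            Nat.mul_lt_mul_of_pos_right (by omega) (Nat.pos_of_ne_zero ht0)
        _ ≤ (s ^ c) ^ 2 * H.index := Nat.mul_le_mul_left _ ht
        _ = s ^ c * (s ^ c * H.index) := by ring
        _ ≤ m * m := Nat.mul_le_mul hi1 hxm
        _ = m ^ 2 := by ring
  -- an orbit of size prime to `s`
  have hsV : s ∣ Nat.card V := by rw [hV]; exact dvd_pow_self s (by omega)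
  obtain ⟨v₁, hv₁, hsv⟩ := exists_not_dvd (H := H) hs hsV
  obtain ⟨t, hti, hd⟩ := hcase v₁ hv₁
  obtain ⟨b', hb'⟩ := hb
  have hadd := add_orbit (H := H) (A := {1}) inv_one (v := v₁) (by simpa using hv₁)
  rw [Set.ncard_singleton] at hadd
  rcases special hm19 hs hc (hm.trans hmi) hb' hti hsv (hle v₁ hv₁) hd with ⟨hi, hx, ho⟩ | ⟨hi, hx, ho⟩
  · -- `s ^ c = m`, `H = G`
    rw [← hx] at hVx
    have hHt : H = ⊤ := Subgroup.index_eq_one.1 hi
    have hcd : charDegrees H = charDegrees G := by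
      apply charDegrees_congr
      exact (MulEquiv.subgroupCongr hHt).trans Subgroup.topEquiv
    have hdeg : ∀ d ∈ charDegrees H, d = 1 ∨ m ≤ d := by
      intro d hd
      rw [hcd, h] at hd
      rw [hm]
      exact a6 (by omega) hd
    have hcase' : ∀ v : V, v ≠ 1 → (MulAction.stabilizer H v).index = m ∨
        (m + 1) * (m - 2) ≤ 2 * (MulAction.stabilizer H v).index := by
      intro v hv
      obtain ⟨t, hti, hd⟩ := hcase v hv
      rw [hi, Nat.dvd_one] at hti
      subst hti
      rw [mul_one] at hd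
      rcases hd with hd | hd | hd
      · exact Or.inl hd
      · exact Or.inr hd.ge
      · right
        rw [hd]
        obtain ⟨y, rfl⟩ := Nat.exists_eq_add_of_le hm19
        rw [show 19 + y - 2 = 17 + y by omega, show 19 + y - 1 = 18 + y by omega]
        nlinarith
    -- an orbit of size `m`
    have key : ∃ v : V, v ≠ 1 ∧ (MulAction.stabilizer H v).index = m := by
      by_contra hcon
      push Not at hcon
      have hall : ∀ v : V, v ≠ 1 → (m + 1) * (m - 2) ≤ 2 * (MulAction.stabilizer H v).index := fun v hv =>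
        (hcase' v hv).resolve_left (hcon v hv)
      have hup : ∀ v : V, v ≠ 1 → 2 * (MulAction.stabilizer H v).index ≤ m * (m - 1) := by
        intro v hv
        obtain ⟨t, hti, hd⟩ := hcase v hv
        rw [hi, Nat.dvd_one] at hti
        subst hti
        rw [mul_one] at hd
        rcases hd with hd | hd | hd
        · exact absurd hd (hcon v hv)
        · rw [hd]
          obtain ⟨y, rfl⟩ := Nat.exists_eq_add_of_le hm19
          rw [show 19 + y - 2 = 17 + y by omega, show 19 + y - 1 = 18 + y by omega]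
          nlinarith
        · exact hd.le
      have hnum : m * (m - 1) + m = m ^ 2 := by
        obtain ⟨y, rfl⟩ := Nat.exists_eq_add_of_le hm19
        rw [show 19 + y - 1 = 18 + y by omega]
        ring
      have hnum2 : (m + 1) * (m - 2) + m + 2 = m ^ 2 := by
        obtain ⟨y, rfl⟩ := Nat.exists_eq_add_of_le hm19
        rw [show 19 + y - 2 = 17 + y by omega]
        ring
      have hnum3 : 19 * m ≤ m ^ 2 := by nlinarith
      have h1 : ({1} ∪ MulAction.orbit H v₁).ncard < Nat.card V := by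
        rw [hadd.2, hVx]
        omega
      obtain ⟨v₂, hv₂⟩ := exists_not_mem h1
      have hv₂1 : v₂ ≠ 1 := by
        rintro rfl
        exact hv₂ (Or.inl rfl)
      have hadd₂ := add_orbit (H := H) hadd.1 hv₂
      have hu₂ := hup v₂ hv₂1
      have hl₂ := hall v₂ hv₂1
      have h2 : ({1} ∪ MulAction.orbit H v₁ ∪ MulAction.orbit H v₂).ncard < Nat.card V := by
        rw [hadd₂.2, hadd.2, hVx]
        omega
      obtain ⟨v₃, hv₃⟩ := exists_not_mem h2
      have hv₃1 : v₃ ≠ 1 := by
        rintro rfl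
        exact hv₃ (Or.inl (Or.inl rfl))
      have hadd₃ := add_orbit (H := H) hadd₂.1 hv₃
      have hl₃ := hall v₃ hv₃1
      have h3 := ncard_le ({1} ∪ MulAction.orbit H v₁ ∪ MulAction.orbit H v₂ ∪ MulAction.orbit H v₃)
      rw [hadd₃.2, hadd₂.2, hadd.2, hVx] at h3
      omega
    obtain ⟨v₃, hv₃, ho₃⟩ := key
    have hT := b1 hdeg (MulAction.stabilizer H v₃) ho₃.le
    have hTn : (MulAction.stabilizer H v₃).Normal := Subgroup.Normal.of_commutator_le _ hT
    -- the fixed points
    let W : Subgroup V :=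
      { carrier := {w | ∀ g ∈ MulAction.stabilizer H v₃, g • w = w}
        one_mem' := fun g _ => smul_one g
        mul_mem' := fun {a b} ha hb g hg => by rw [smul_mul', ha g hg, hb g hg]
        inv_mem' := fun {a} ha g hg => by rw [smul_inv', ha g hg] }
    have hW : W = ⊤ := by
      refine (hirr W ?_).resolve_left ?_
      · intro g w hw t ht
        have h1 := hw (g⁻¹ * t * g) (by
          have := hTn.conj_mem t ht g⁻¹
          rwa [inv_inv] at this)
        calc t • g • w = g • (g⁻¹ * t * g) • w := by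
              simp only [mul_smul, smul_inv_smul]
          _ = g • w := by rw [h1]
      · intro hbot
        have h1 : v₃ ∈ W := fun g hg => hg
        rw [hbot, Subgroup.mem_bot] at h1
        exact hv₃ h1
    have hle' : MulAction.stabilizer H v₃ ≤ MulAction.stabilizer H v₁ := by
      intro g hg
      have h1 : v₁ ∈ W := by rw [hW]; exact Subgroup.mem_top _
      exact h1 g hg
    have h4 : (MulAction.stabilizer H v₁).index ≤ m := by
      rw [← ho₃]
      exact Nat.le_of_dvd (by omega) (Subgroup.index_dvd_of_le hle')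
    obtain ⟨y, rfl⟩ := Nat.exists_eq_add_of_le hm19
    rw [show 19 + y - 2 = 17 + y by omega] at ho
    nlinarith
  · -- `s ^ c = m / 2`
    have hlow : ∀ v : V, v ≠ 1 → s ^ c ≤ (MulAction.stabilizer H v).index := by
      intro v hv
      obtain ⟨t, hti, hd⟩ := hcase v hv
      rw [hi] at hti
      have ht2 : t ≤ 2 := Nat.le_of_dvd (by norm_num) hti
      have h1 : (MulAction.stabilizer H v).index * t ≤ (MulAction.stabilizer H v).index * 2 :=
        Nat.mul_le_mul_left _ ht2
      have h2 : m ≤ (MulAction.stabilizer H v).index * t := by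
        rcases hd with hd | hd | hd
        · exact hd.ge
        · obtain ⟨y, rfl⟩ := Nat.exists_eq_add_of_le hm19
          rw [show 19 + y - 2 = 17 + y by omega] at hd
          nlinarith
        · obtain ⟨y, rfl⟩ := Nat.exists_eq_add_of_le hm19
          rw [show 19 + y - 1 = 18 + y by omega] at hd
          nlinarith
      omega
    have hnum : (m + 1) * (s ^ c - 1) + s ^ c + 1 = 2 * (s ^ c) ^ 2 := by
      have h9 : 1 ≤ s ^ c := by omega
      rw [hx]
      generalize s ^ c = x at *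
      obtain ⟨y, rfl⟩ := Nat.exists_eq_add_of_le h9
      rw [show 1 + y - 1 = y by omega]
      ring
    have h1 : ({1} ∪ MulAction.orbit H v₁).ncard < Nat.card V := by
      rw [hadd.2, hVx]
      omega
    obtain ⟨v₂, hv₂⟩ := exists_not_mem h1
    have hv₂1 : v₂ ≠ 1 := by
      rintro rfl
      exact hv₂ (Or.inl rfl)
    have hadd₂ := add_orbit (H := H) hadd.1 hv₂
    have hl₂ := hlow v₂ hv₂1
    have h2 := ncard_le ({1} ∪ MulAction.orbit H v₁ ∪ MulAction.orbit H v₂)
    rw [hadd₂.2, hadd.2, hVx] at h2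
    omega

omit [Finite G] in
/-- an induced linear character of a normal subgroup is trivial on the derived group -/
theorem indFun_lin [Fintype G] (H : Subgroup G) [H.Normal] {lam : H → ℂ} (hl : IsIrrCharacter H lam)
    (h1 : lam 1 = 1) {g : G} (hg : g ∈ ⁅H, H⁆) : indFun H lam g = indFun H lam 1 := by
  obtain ⟨f, hf⟩ := Characters.Linear.exists_hom_of_isIrrCharacter hl h1
  have hker : ∀ x : G, ∀ hx : x ∈ H, x ∈ ⁅H, H⁆ → lam ⟨x, hx⟩ = 1 := by
    intro x hx hx'
    rw [← Subgroup.map_subtype_commutator] at hx'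
    obtain ⟨y, hy, hyx⟩ := hx'
    have hyx' : y = ⟨x, hx⟩ := Subtype.ext hyx
    rw [← hyx', hf]
    have h2 : f y = 1 := Abelianization.commutator_subset_ker f hy
    show (f y : ℂ) = 1
    rw [h2, Units.val_one]
  have hn : (⁅H, H⁆ : Subgroup G).Normal := Subgroup.commutator_normal H H
  have hval : ∀ y ∈ ⁅H, H⁆, ∀ x : G, extendByZero H lam (x⁻¹ * y * x) = 1 := by
    intro y hy x
    have h3 : x⁻¹ * y * x ∈ ⁅H, H⁆ := by
      have := hn.conj_mem y hy x⁻¹
      rwa [inv_inv] at this
    have h4 : x⁻¹ * y * x ∈ H := Subgroup.commutator_le_self H h3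
    rw [extendByZero_of_mem H lam h4]
    exact hker _ h4 h3
  show (Nat.card H : ℂ)⁻¹ * ∑ x : G, extendByZero H lam (x⁻¹ * g * x) =
    (Nat.card H : ℂ)⁻¹ * ∑ x : G, extendByZero H lam (x⁻¹ * 1 * x)
  congr 1
  refine Finset.sum_congr rfl fun x _ => ?_
  rw [hval g hg x, hval 1 (one_mem _) x]

/-- **B4** from A3, A4, A6, B1, B2, B3 -/
theorem b4_of (a3 : A3) (a4 : A4) (a6 : A6) (b1 : B1.{u}) (b2 : B2.{u}) (b3 : B3.{u}) {n : ℕ} (hn : 20 ≤ n)
    {G : Type u} [Group G] [Finite G] [Group.IsSolvable G]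
    (h : charDegrees G = D n) : ∃ A : Subgroup G, A.Normal ∧ commutator G ≤ A ∧ A.index = n - 1 ∧
      ∃ χ : G → ℂ, IsIrrCharacter G χ ∧ χ 1 = (n - 1 : ℕ) ∧ ∀ g ∈ ⁅A, A⁆, χ g = χ 1 := by
  classical
  have := Fintype.ofFinite G
  have hmem : n - 1 ∈ charDegrees G := by rw [h]; exact (a4 (by omega)).1
  obtain ⟨χ, hχ, hχ1⟩ := mem_charDegrees.1 hmem
  obtain ⟨H, lam, hl, hqp, hind⟩ := b2 hχ
  obtain ⟨b, hb0, hb⟩ := isIrr_apply_one hl
  have hmi : n - 1 = H.index * b := by
    have h1 := OddOrderCharacters.IndRes.indFun_apply_one H lam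
    rw [hind, hχ1, hb] at h1
    exact_mod_cast h1
  have hle : H.index ≤ n - 1 := by
    rw [hmi]
    exact Nat.le_mul_of_pos_right _ (by omega)
  have hcH : commutator G ≤ H := by
    refine b1 ?_ H hle
    intro d hd
    rw [h] at hd
    exact a6 (by omega) hd
  have hHn : H.Normal := Subgroup.Normal.of_commutator_le _ hcH
  by_cases hb1 : b = 1
  · subst hb1
    refine ⟨H, hHn, hcH, by rw [hmi, mul_one], χ, hχ, hχ1, ?_⟩
    intro g hg
    rw [← hind]
    exact indFun_lin H hl (by simpa using hb) hg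
  · exfalso
    obtain ⟨s, c, V, _, _, _, hs, hc, hV, hsb, hirr, horb⟩ := b3 hl hqp hb hb1
    exact no_section a3 a6 b1 hn h H hmi hs hc hV hsb hirr horb

end Main

end Cfsg.Agent.H107.AN
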